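import Cfsg.Agent.H480.Ore.FiBThree
import Cfsg.Agent.H844.Ore.BReal
import Cfsg.Agent.H516.Ore.BabyFour
import Cfsg.Agent.H58.Ore.BThree

/-!
# S4171, row B: the assembly (helper569)

`four_B_of` : every element of the Baby Monster is a product of four elements of square one, from
* `T1` : every `g` with `|C(g)| ≤ K` is (`7700000000 ≤ K`);
* `hO` : the table of `Co₂`; `hFi` : the row `Fi22`;
* `S4`, `S9` : the elements of prime order `≥ 5` and of order 9 have `|C(y)| ≤ K`;
* `h3` : the elements of order 3 which are not of type 3A.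

`three_B_of_le` : `h3` if `65303470080 ≤ K`.

`four_B_fi` : the same from `T1`, `hO`, the rows `Fi22`, `Fi23` and `S4` alone.
-/

set_option autoImplicit false

namespace Cfsg.Agent.H569.Inv.FourB

open Cfsg Cfsg.Agent.H777.Ore
open Cfsg.Agent.H844.Ore (FiB TwoB)
open Subgroup (centralizer mem_centralizer_singleton_iff)

universe u

variable {S : Type u} [Group S]

theorem I4.inv' {g : S} (h : I4 g) : I4 g⁻¹ := by
  obtain ⟨a, b, c, d, ha, hb, hc, hd, rfl⟩ := h
  have e : ∀ {x : S}, x * x = 1 → x⁻¹ = x := fun hx => inv_eq_of_mul_eq_one_left hx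
  refine ⟨d, c, b, a, hd, hc, hb, ha, ?_⟩
  rw [mul_inv_rev, mul_inv_rev, mul_inv_rev, e ha, e hb, e hc, e hd]
  group

theorem i4_of_real {g i : S} (hi : i * i = 1) (hg : i * g * i⁻¹ = g⁻¹) : I4 g := by
  have e : i⁻¹ = i := inv_eq_of_mul_eq_one_left hi
  refine ⟨i, i * g, 1, 1, hi, ?_, one_mul 1, one_mul 1, ?_⟩
  · rw [e] at hg
    calc i * g * (i * g) = (i * g * i) * g := by group
      _ = 1 := by rw [hg, inv_mul_cancel]
  · calc g = (i * i) * g := by rw [hi, one_mul]
      _ = i * (i * g) * 1 * 1 := by group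

theorem card_cent_pow [Finite S] (g : S) (k : ℕ) :
    Nat.card ↥(centralizer ({g} : Set S)) ≤ Nat.card ↥(centralizer ({g ^ k} : Set S)) := by
  refine Nat.card_le_card_of_injective (Subgroup.inclusion (fun y hy => ?_)) (Subgroup.inclusion_injective _)
  rw [mem_centralizer_singleton_iff] at hy ⊢
  exact ((show Commute y g from hy).pow_right k).eq

theorem card_cent_inv (g : S) :
    Nat.card ↥(centralizer ({g⁻¹} : Set S)) = Nat.card ↥(centralizer ({g} : Set S)) := by
  congr 2
  ext y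
  rw [mem_centralizer_singleton_iff, mem_centralizer_singleton_iff]
  constructor
  · intro h
    have := (show Commute y g⁻¹ from h).inv_right
    rw [inv_inv] at this
    exact this
  · intro h
    exact (show Commute y g from h).inv_right

/-- elements of order `2 ^ a * 3` with `FiB` cube part -/
theorem six_fiB [Finite S] {K : ℕ} (hK : 7357464576 ≤ K)
    (T1 : ∀ g : S, Nat.card ↥(centralizer ({g} : Set S)) ≤ K → I4 g) (hFi : Inv4 Spor.Fi22) {g : S} {a : ℕ}
    (hg : orderOf g = 2 ^ a * 3) (hF : FiB (g ^ 2 ^ a)) : I4 g := by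
  obtain ⟨s, hs⟩ : ∃ s, g ^ 2 ^ a = s := ⟨_, rfl⟩
  rw [hs] at hF
  have hs3 : s ^ 3 = 1 := by rw [← hs, ← pow_mul, ← hg, pow_orderOf_eq_one]
  have hgs : Commute g s := by rw [← hs]; exact (Commute.refl g).pow_right _
  have key : ∀ u : S, Commute u s → u ^ 2 ^ a = 1 → I4 (u * s) := by
    intro u hu hua
    rcases H480.Ore.i4_or_card_of_fiB hF hFi hua hu.eq with h | h
    · exact h
    · exact T1 _ (h.trans hK)
  have h3 : 2 ^ a % 3 = 1 ∨ 2 ^ a % 3 = 2 := by
    have : 2 ^ a % 3 ≠ 0 := by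
      intro h
      have h1 := Nat.prime_three.dvd_of_dvd_pow (Nat.dvd_of_mod_eq_zero h)
      omega
    omega
  rcases h3 with h3 | h3
  · have h1 : I4 (g * s⁻¹ * s) := by
      refine key _ (hgs.mul_left (Commute.refl s).inv_left) ?_
      rw [(hgs.inv_right).mul_pow, hs]
      have h2 : s ^ 2 ^ a = s := by
        rw [← Nat.div_add_mod (2 ^ a) 3, h3, pow_add, pow_mul, hs3, one_pow, one_mul, pow_one]
      rw [inv_pow, h2, mul_inv_cancel]
    rwa [inv_mul_cancel_right] at h1
  · have h1 : I4 (g⁻¹ * s⁻¹ * s) := by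
      refine key _ (hgs.inv_left.mul_left (Commute.refl s).inv_left) ?_
      rw [(hgs.inv_left.inv_right).mul_pow, inv_pow, hs, inv_pow]
      have h2 : s ^ 2 ^ a = s ^ 2 := by
        rw [← Nat.div_add_mod (2 ^ a) 3, h3, pow_add, pow_mul, hs3, one_pow, one_mul]
      rw [h2, ← mul_inv_rev, ← pow_succ, hs3, inv_one]
    rw [inv_mul_cancel_right] at h1
    have h4 := I4.inv' h1
    rwa [inv_inv] at h4

/-- **Row B of S4171**, assembly. -/
theorem four_B_of (h : Spor.IsoB S) (hO : H516.Ore.BabyFour.OreF11Two) (hFi : Inv4 Spor.Fi22) {K : ℕ}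
    (hK : 7357464576 ≤ K) (T1 : ∀ g : S, Nat.card ↥(centralizer ({g} : Set S)) ≤ K → I4 g)
    (S4 : ∀ (p : ℕ) (y : S), p.Prime → 5 ≤ p → orderOf y = p → Nat.card ↥(centralizer ({y} : Set S)) ≤ K)
    (S9 : ∀ y : S, orderOf y = 9 → Nat.card ↥(centralizer ({y} : Set S)) ≤ K)
    (h3 : ∀ s : S, orderOf s = 3 → ¬ FiB s → I4 s) : Inv4 S := by
  have hfin : Finite S := Nat.finite_of_card_ne_zero (by rw [NotCT.Orders.b h]; norm_num)
  intro g
  have hn0 : orderOf g ≠ 0 := (orderOf_pos g).ne'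
  have hpow : ∀ m, m ∣ orderOf g → m ≠ 0 → orderOf (g ^ (orderOf g / m)) = m := by
    intro m hm hm0
    exact orderOf_pow_orderOf_div hn0 hm
  by_cases hp : ∃ p, p.Prime ∧ 5 ≤ p ∧ p ∣ orderOf g
  · obtain ⟨p, hp, h5, hd⟩ := hp
    exact T1 g ((card_cent_pow g (orderOf g / p)).trans (S4 p _ hp h5 (hpow p hd hp.ne_zero)))
  by_cases h9 : 9 ∣ orderOf g
  · exact T1 g ((card_cent_pow g (orderOf g / 9)).trans (S9 _ (hpow 9 h9 (by norm_num))))
  by_cases h3' : 3 ∣ orderOf g
  · -- `orderOf g = 2 ^ a * 3`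
    obtain ⟨a, ha⟩ : ∃ a, orderOf g = 2 ^ a * 3 := by
      obtain ⟨m, hm⟩ := h3'
      have hm2 : ∀ q : ℕ, q.Prime → q ∣ m → q = 2 := by
        intro q hq hqm
        by_contra hne
        have hqg : q ∣ orderOf g := hm ▸ hqm.mul_left 3
        have h5 : ¬ 5 ≤ q := fun h5 => hp ⟨q, hq, h5, hqg⟩
        have h2 := hq.two_le
        have h4 : q ≠ 4 := by rintro rfl; revert hq; decide
        have hq3 : q = 3 := by omega
        subst hq3
        apply h9
        rw [hm]
        exact mul_dvd_mul (dvd_refl 3) hqm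
      have hm0 : m ≠ 0 := by rintro rfl; exact hn0 (by rw [hm])
      refine ⟨m.primeFactorsList.length, ?_⟩
      rw [hm, mul_comm, ← Nat.eq_prime_pow_of_unique_prime_dvd hm0 (fun {d} hd hdm => hm2 d hd hdm)]
    rcases Nat.eq_zero_or_pos a with rfl | ha0
    · rw [pow_zero, one_mul] at ha
      by_cases hF : FiB g
      · obtain ⟨i, hi, hg⟩ := H480.Ore.real_of_fiB hF
        exact i4_of_real hi hg
      · exact h3 g ha hF
    · have h6 : 6 ∣ orderOf g := by
        rw [ha]
        obtain ⟨b, rfl⟩ : ∃ b, a = b + 1 := ⟨a - 1, by omega⟩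
        rw [pow_succ]
        exact ⟨2 ^ b, by ring⟩
      rcases H844.Ore.BThree.cent_six h h6 with h7 | h7
      · exact T1 g (h7.trans (le_trans (by norm_num) hK))
      · have e : orderOf g / 3 = 2 ^ a := by rw [ha]; exact Nat.mul_div_cancel _ (by norm_num)
        rw [e] at h7
        exact six_fiB hK T1 hFi ha h7
  · -- a 2-element
    refine H516.Ore.BabyFour.two4_B h hO ⟨(orderOf g).primeFactorsList.length, ?_⟩
    refine Nat.eq_prime_pow_of_unique_prime_dvd hn0 fun {q} hq hqg => ?_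
    by_contra hne
    have h5 : ¬ 5 ≤ q := fun h5 => hp ⟨q, hq, h5, hqg⟩
    have h2 := hq.two_le
    have h4 : q ≠ 4 := by rintro rfl; revert hq; decide
    have hq3 : q = 3 := by omega
    exact h3' (hq3 ▸ hqg)

/-- **Row B of S4171**, assembly with the row `Fi23` for the 3-elements. -/
theorem four_B_fi (h : Spor.IsoB S) (hO : H516.Ore.BabyFour.OreF11Two) (hFi : Inv4 Spor.Fi22) (hFi23 : Inv4 Spor.Fi23)
    {K : ℕ} (hK : 7357464576 ≤ K) (T1 : ∀ g : S, Nat.card ↥(centralizer ({g} : Set S)) ≤ K → I4 g)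
    (S4 : ∀ (p : ℕ) (y : S), p.Prime → 5 ≤ p → orderOf y = p → Nat.card ↥(centralizer ({y} : Set S)) ≤ K) :
    Inv4 S := by
  have hfin : Finite S := Nat.finite_of_card_ne_zero (by rw [NotCT.Orders.b h]; norm_num)
  -- the 3-elements
  have h3 : ∀ (s : S) (k : ℕ), s ^ 3 ^ k = 1 → I4 s := by
    intro s k hs
    obtain ⟨f, -, h1⟩ := H58.Ore.BThree.conj_fi23 h
    obtain ⟨g, a, ha⟩ := h1 s k hs
    have h2 : I4 (g⁻¹ * s * g) := by
      rw [ha]
      exact H516.Ore.BabyFour.I4.map' f (hFi23 a)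
    refine H516.Ore.BabyFour.I4.of_conj' g⁻¹ ?_
    rwa [inv_inv]
  intro g
  have hn0 : orderOf g ≠ 0 := (orderOf_pos g).ne'
  by_cases hp : ∃ p, p.Prime ∧ 5 ≤ p ∧ p ∣ orderOf g
  · obtain ⟨p, hp, h5, hd⟩ := hp
    exact T1 g ((card_cent_pow g (orderOf g / p)).trans (S4 p _ hp h5 (orderOf_pow_orderOf_div hn0 hd)))
  have h23 : ∀ q : ℕ, q.Prime → q ∣ orderOf g → q = 2 ∨ q = 3 := by
    intro q hq hqg
    have h5 : ¬ 5 ≤ q := fun h5 => hp ⟨q, hq, h5, hqg⟩
    have h2 := hq.two_le
    have h4 : q ≠ 4 := by rintro rfl; revert hq; decide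
    omega
  by_cases h2' : 2 ∣ orderOf g
  · by_cases h3' : 3 ∣ orderOf g
    · have h6 : 6 ∣ orderOf g := Nat.Coprime.mul_dvd_of_dvd_of_dvd (by norm_num) h2' h3'
      rcases H844.Ore.BThree.cent_six h h6 with h7 | h7
      · exact T1 g (h7.trans (le_trans (by norm_num) hK))
      · -- 9 does not divide
        have h9 : ¬ 9 ∣ orderOf g := by
          rintro ⟨m, hm⟩
          refine H480.Ore.not_cube_of_fiB h7 (g ^ m) ?_
          rw [← pow_mul, hm]
          congr 1
          omega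
        obtain ⟨m, hm⟩ := h3'
        have hm0 : m ≠ 0 := by rintro rfl; exact hn0 (by rw [hm])
        have hm2 : ∀ q : ℕ, q.Prime → q ∣ m → q = 2 := by
          intro q hq hqm
          rcases h23 q hq (hm ▸ hqm.mul_left 3) with h8 | rfl
          · exact h8
          · exact absurd (hm ▸ mul_dvd_mul (dvd_refl 3) hqm : 9 ∣ orderOf g) h9
        have ha : orderOf g = 2 ^ m.primeFactorsList.length * 3 := by
          rw [hm, mul_comm, ← Nat.eq_prime_pow_of_unique_prime_dvd hm0 (fun {d} hd hdm => hm2 d hd hdm)]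
        have e : orderOf g / 3 = 2 ^ m.primeFactorsList.length := by
          rw [ha]
          exact Nat.mul_div_cancel _ (by norm_num)
        rw [e] at h7
        exact six_fiB hK T1 hFi ha h7
    · refine H516.Ore.BabyFour.two4_B h hO ⟨(orderOf g).primeFactorsList.length, ?_⟩
      refine Nat.eq_prime_pow_of_unique_prime_dvd hn0 fun {q} hq hqg => ?_
      rcases h23 q hq hqg with h8 | rfl
      · exact h8
      · exact absurd hqg h3'
  · refine h3 g (orderOf g).primeFactorsList.length ?_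
    rw [← Nat.eq_prime_pow_of_unique_prime_dvd hn0 (p := 3) fun {q} hq hqg => ?_, pow_orderOf_eq_one]
    rcases h23 q hq hqg with rfl | h8
    · exact absurd hqg h2'
    · exact h8

/-- the elements of order 3 if `65303470080 ≤ K` -/
theorem three_B_of_le (h : Spor.IsoB S) {K : ℕ} (hK : 65303470080 ≤ K)
    (T1 : ∀ g : S, Nat.card ↥(centralizer ({g} : Set S)) ≤ K → I4 g) {s : S} (hs : orderOf s = 3)
    (hF : ¬ FiB s) : I4 s := by
  have hfin : Finite S := Nat.finite_of_card_ne_zero (by rw [NotCT.Orders.b h]; norm_num)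
  rcases H844.Ore.BThree.three_le h hs with h1 | h1
  · exact T1 s (h1.trans hK)
  · exact absurd h1 hF

end Cfsg.Agent.H569.Inv.FourB
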