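import Cfsg.Agent.H569.Inv.FourB
import Cfsg.Agent.H860.I4.TOneB

/-!
# S4171, row B: assembly with the bound `198000000000` (helper569)

`four_B` : every element of the Baby Monster is a product of four elements of square one, from the `Co₂`-table (2-elements), the
row `Fi22` and `|C(y)| ≤ 198000000000` for `y` of prime order at least five.
-/

set_option autoImplicit false

namespace Cfsg.Agent.H569.Inv.FourB

open Cfsg Cfsg.Agent.H777.Ore
open Cfsg.Agent.H844.Ore (FiB)
open Subgroup (centralizer mem_centralizer_singleton_iff)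

universe u

variable {S : Type u} [Group S]

/-- **The row B of S4171.** -/
theorem four_B (h3 : Cfsg.Agent.H715.Mon.Grp.SThree.{0}) (h : Spor.IsoB S) (hO : H516.Ore.BabyFour.OreF11Two)
    (hFi : Inv4 Spor.Fi22)
    (S4 : ∀ (p : ℕ) (y : S), p.Prime → 5 ≤ p → orderOf y = p →
      Nat.card ↥(centralizer ({y} : Set S)) ≤ 198000000000) : Inv4 S := by
  have hfin : Finite S := Nat.finite_of_card_ne_zero (by rw [NotCT.Orders.b h]; norm_num)
  have T1 : ∀ g : S, Nat.card ↥(centralizer ({g} : Set S)) ≤ 198000000000 → I4 g :=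
    fun g hg => H860.I4.T1I_B h3 h hg
  refine four_B_of h hO hFi (K := 198000000000) (by norm_num) T1 S4 ?_
    (fun s hs hF => three_B_of_le h (by norm_num) T1 hs hF)
  intro y hy
  have e : orderOf (y ^ 3) = 3 := by
    have h1 := orderOf_pow_orderOf_div (x := y) (n := 3) (by rw [hy]; norm_num) (by rw [hy]; norm_num)
    rwa [hy] at h1
  rcases H844.Ore.BThree.three_le h e with h1 | h1
  · exact (card_cent_pow y 3).trans (h1.trans (by norm_num))
  · exact absurd rfl (H480.Ore.not_cube_of_fiB h1 y)

end Cfsg.Agent.H569.Inv.FourB
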